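import Groth.Agent.RelSpecLib.Basic
import Groth.Agent.KoszShLib.AffHom
import Groth.Prelude.Def_AffAlg

/-! Homomorphisms of quasi-coherent algebras from families on affine opens; pushouts. -/

set_option autoImplicit false
set_option linter.style.haveILetI false
set_option backward.isDefEq.respectTransparency false

universe u

open CategoryTheory CategoryTheory.Limits AlgebraicGeometry TopologicalSpace Opposite
open Groth.Agent.KoszShLib

noncomputable section

namespace Groth.Agent.QCAlgHomLib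

variable {S : Scheme.{u}} {A B : RelSpec.QCAlg S}

/-- Homomorphisms agreeing over the affine opens are equal. -/
theorem hom_ext_affine {φ ψ : A ⟶ B} (h : ∀ W : S.affineOpens, φ.hom.app (op W.1) = ψ.hom.app (op W.1)) : φ = ψ := by
  refine RelSpec.QCAlg.hom_ext ?_
  exact (TopCat.Sheaf.restrictHomEquivHom A.presheaf (⟨B.presheaf, B.isSheaf⟩ : TopCat.Sheaf CommRingCat.{u} S)
    isBasis_range).symm.injective (NatTrans.ext (funext fun W => h W.unop))

/-- A compatible family over the affine opens comes from a homomorphism. -/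
theorem exists_hom_of_affine (h : ∀ W : S.affineOpens, A.presheaf.obj (op W.1) ⟶ B.presheaf.obj (op W.1))
    (hres : ∀ (V W : S.affineOpens) (hVW : V.1 ≤ W.1),
      A.presheaf.map (homOfLE hVW).op ≫ h V = h W ≫ B.presheaf.map (homOfLE hVW).op)
    (hstr : ∀ W : S.affineOpens, A.str.app (op W.1) ≫ h W = B.str.app (op W.1)) :
    ∃ φ : A ⟶ B, ∀ W : S.affineOpens, φ.hom.app (op W.1) = h W := by
  let Bs : TopCat.Sheaf CommRingCat.{u} S := ⟨B.presheaf, B.isSheaf⟩
  let nat : (inducedFunctor fun W : S.affineOpens => W.1).op ⋙ A.presheaf ⟶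
      (inducedFunctor fun W : S.affineOpens => W.1).op ⋙ B.presheaf :=
    { app := fun W => h W.unop
      naturality := fun W V i => hres V.unop W.unop i.unop.hom.le }
  let g : A.presheaf ⟶ B.presheaf := TopCat.Sheaf.restrictHomEquivHom A.presheaf Bs isBasis_range nat
  have hg : ∀ W : S.affineOpens, g.app (op W.1) = h W := fun W =>
    TopCat.Sheaf.extend_hom_app A.presheaf Bs isBasis_range nat W
  refine ⟨⟨g, ?_⟩, hg⟩
  refine (TopCat.Sheaf.restrictHomEquivHom S.presheaf Bs isBasis_range).symm.injective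
    (NatTrans.ext (funext fun W => ?_))
  show A.str.app (op W.unop.1) ≫ g.app (op W.unop.1) = B.str.app (op W.unop.1)
  rw [hg]
  exact hstr W.unop

/-- A square of algebras which is a pushout over every affine open is a pushout. -/
theorem isPushout_of_affine {A B C D : RelSpec.QCAlg S} {a : A ⟶ B} {b : A ⟶ C} {c : B ⟶ D} {d : C ⟶ D}
    (h : ∀ W : S.affineOpens,
      IsPushout (a.hom.app (op W.1)) (b.hom.app (op W.1)) (c.hom.app (op W.1)) (d.hom.app (op W.1))) :
    IsPushout a b c d := by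
  refine ⟨⟨hom_ext_affine fun W => (h W).w⟩, ⟨?_⟩⟩
  have hc : ∀ (s : PushoutCocone a b) (W : S.affineOpens),
      a.hom.app (op W.1) ≫ s.inl.hom.app (op W.1) = b.hom.app (op W.1) ≫ s.inr.hom.app (op W.1) := fun s W =>
    congrArg (fun φ : A ⟶ s.pt => φ.hom.app (op W.1)) s.condition
  have hex : ∀ s : PushoutCocone a b, ∃ φ : D ⟶ s.pt, ∀ W : S.affineOpens,
      φ.hom.app (op W.1) = (h W).desc (s.inl.hom.app (op W.1)) (s.inr.hom.app (op W.1)) (hc s W) := fun s => by
    refine exists_hom_of_affine _ (fun V W hVW => (h W).hom_ext ?_ ?_) (fun W => ?_)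
    · rw [← Category.assoc, ← c.hom.naturality, Category.assoc, IsPushout.inl_desc, IsPushout.inl_desc_assoc,
        s.inl.hom.naturality]
    · rw [← Category.assoc, ← d.hom.naturality, Category.assoc, IsPushout.inr_desc, IsPushout.inr_desc_assoc,
        s.inr.hom.naturality]
    · rw [← (show B.str.app (op W.1) ≫ c.hom.app (op W.1) = D.str.app (op W.1) from
        congrArg (fun φ => φ.app (op W.1)) c.comm), Category.assoc, IsPushout.inl_desc]
      exact congrArg (fun φ => φ.app (op W.1)) s.inl.comm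
  choose φ hφ using hex
  refine PushoutCocone.IsColimit.mk _ φ (fun s => hom_ext_affine fun W => ?_) (fun s => hom_ext_affine fun W => ?_)
    (fun s m h1 h2 => hom_ext_affine fun W => ?_)
  · rw [RelSpec.QCAlg.comp_hom, NatTrans.comp_app, hφ, IsPushout.inl_desc]
  · rw [RelSpec.QCAlg.comp_hom, NatTrans.comp_app, hφ, IsPushout.inr_desc]
  · refine (h W).hom_ext ?_ ?_
    · rw [hφ, IsPushout.inl_desc]
      exact congrArg (fun φ : B ⟶ s.pt => φ.hom.app (op W.1)) h1
    · rw [hφ, IsPushout.inr_desc]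
      exact congrArg (fun φ : C ⟶ s.pt => φ.hom.app (op W.1)) h2

/-- The direct image algebras of a fibre product of schemes affine over the base form a pushout over affine opens. -/
theorem isPushout_algHom_app {X X' Y Z S : Scheme.{u}} (g : Y ⟶ S) [IsAffineHom g]
    (f : X ⟶ Y) [IsAffineHom f] (f' : X' ⟶ Y) [IsAffineHom f'] (p : Z ⟶ X) (p' : Z ⟶ X')
    (hZ : IsPullback p p' f f') (w : p' ≫ f' ≫ g = p ≫ f ≫ g) (W : S.affineOpens) :
    IsPushout ((AffAlg.algHom g (f ≫ g) f rfl).app (op W.1)) ((AffAlg.algHom g (f' ≫ g) f' rfl).app (op W.1))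
      ((AffAlg.algHom (f ≫ g) (p ≫ f ≫ g) p rfl).app (op W.1))
      ((AffAlg.algHom (f' ≫ g) (p ≫ f ≫ g) p' w).app (op W.1)) := by
  simp only [RelSpecLib.algHom_app_gen]
  have hV := W.2.preimage g
  have hUY : (p ≫ f ≫ g) ⁻¹ᵁ W.1 = p ⁻¹ᵁ ((f ≫ g) ⁻¹ᵁ W.1) ⊓ p' ⁻¹ᵁ ((f' ≫ g) ⁻¹ᵁ W.1) := by
    rw [← Scheme.Hom.comp_preimage p (f ≫ g), ← Scheme.Hom.comp_preimage p' (f' ≫ g), w, inf_idem]
  haveI := isIso_pushoutSection_of_isAffineOpen hZ (US := g ⁻¹ᵁ W.1) (UT := (f' ≫ g) ⁻¹ᵁ W.1)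
    (UX := (f ≫ g) ⁻¹ᵁ W.1) le_rfl le_rfl hUY hV (W.2.preimage (f' ≫ g)) (W.2.preimage (f ≫ g))
  exact (isIso_pushoutSection_iff hZ (US := g ⁻¹ᵁ W.1) (UT := (f' ≫ g) ⁻¹ᵁ W.1) (UX := (f ≫ g) ⁻¹ᵁ W.1)
    le_rfl le_rfl hUY).1 inferInstance

end Groth.Agent.QCAlgHomLib
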